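/-
Erdős's inequalities for a binomial coefficient all of whose prime factors are small.
-/
import Mathlib.NumberTheory.PrimeCounting
import Mathlib.NumberTheory.Primorial
import Mathlib.Data.Nat.Choose.Factorization
import Mathlib.Data.Nat.Choose.Central

set_option autoImplicit false

namespace Cfsg.Agent.Lead.Sylvester

open Nat Finset

/-- Every prime factor of `n.choose k` is at most `k`. -/
def NoBig (n k : ℕ) : Prop := ∀ p : ℕ, p.Prime → p ∣ n.choose k → p ≤ k

theorem choose_eq_prod {n k : ℕ} (hk : k ≤ n) (L : ℕ)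
    (hL : ∀ p : ℕ, p.Prime → p ∣ n.choose k → p ≤ L) :
    n.choose k = ∏ p ∈ primesLE L, p ^ (n.choose k).factorization p := by
  have hne : n.choose k ≠ 0 := (Nat.choose_pos hk).ne'
  conv_lhs => rw [← prod_factorization_pow_eq_self hne]
  rw [Finsupp.prod, Nat.support_factorization]
  refine Finset.prod_subset (fun p hp => ?_) fun p _ hnot => ?_
  · rw [mem_primesLE]
    exact ⟨hL p (prime_of_mem_primeFactors hp) (dvd_of_mem_primeFactors hp),
      prime_of_mem_primeFactors hp⟩
  · rw [← Nat.support_factorization, Finsupp.notMem_support_iff] at hnot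
    rw [hnot, pow_zero]

theorem choose_le_pow_primeCounting {n k : ℕ} (hk : k ≤ n) (hn : 0 < n) (h : NoBig n k) :
    n.choose k ≤ n ^ primeCounting k := by
  conv_lhs => rw [choose_eq_prod hk k h]
  rw [← primesLE_card_eq_primeCounting]
  exact Finset.prod_le_pow_card _ _ _ fun p _ => pow_factorization_choose_le hn

/-- Primes up to `sqrt (sqrt n)` contribute at most `n` each, those up to `sqrt n` at most their cube,
larger ones at most themselves. -/
theorem choose_le_bound {n k : ℕ} (hk : k ≤ n) (hn : 0 < n) (L : ℕ)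
    (hL : ∀ p : ℕ, p.Prime → p ∣ n.choose k → p ≤ L) :
    n.choose k ≤ n ^ sqrt (sqrt n) * 4 ^ (L + 2 * sqrt n) := by
  set s := sqrt n with hs
  set d := sqrt s with hd
  set P := primesLE L with hP
  conv_lhs => rw [choose_eq_prod hk L hL]
  have hp : ∀ p ∈ P, p ^ (n.choose k).factorization p ≤
      (if p ≤ d then n else 1) * (p * if p ≤ s then p * p else 1) := by
    intro p hp
    have h2 : 2 ≤ p := two_le_of_mem_primesLE hp
    have h1 := pow_factorization_choose_le (n := n) (k := k) (p := p) hn
    by_cases hpd : p ≤ d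
    · rw [if_pos hpd]
      refine h1.trans (Nat.le_mul_of_pos_right _ ?_)
      split <;> positivity
    · rw [if_neg hpd, one_mul]
      by_cases hps : p ≤ s
      · rw [if_pos hps]
        have h4 : n < p ^ 4 := by
          have hd2 : s < p * p := Nat.sqrt_lt.1 (by omega)
          have hs2 : n < (p * p) * (p * p) := Nat.sqrt_lt.1 hd2
          calc n < (p * p) * (p * p) := hs2
            _ = p ^ 4 := by ring
        have he : (n.choose k).factorization p < 4 :=
          (Nat.pow_lt_pow_iff_right (by omega)).1 (h1.trans_lt h4)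
        calc p ^ (n.choose k).factorization p ≤ p ^ 3 := pow_le_pow_right₀ (by omega) (by omega)
          _ = p * (p * p) := by ring
      · rw [if_neg hps, mul_one]
        have hlt : n < p ^ 2 := by rw [pow_two]; exact Nat.sqrt_lt.1 (by omega)
        calc p ^ (n.choose k).factorization p ≤ p ^ 1 :=
              pow_le_pow_right₀ (by omega) (factorization_choose_le_one hlt)
          _ = p := pow_one p
  refine (Finset.prod_le_prod' hp).trans ?_
  rw [Finset.prod_mul_distrib, Finset.prod_mul_distrib]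
  refine Nat.mul_le_mul ?_ ?_
  · rw [← Finset.prod_filter, Finset.prod_const]
    refine pow_le_pow_right₀ hn ?_
    calc (P.filter (fun p => p ≤ d)).card ≤ (Finset.Icc 1 d).card := Finset.card_le_card fun p hp => by
          rw [Finset.mem_filter] at hp
          exact Finset.mem_Icc.2 ⟨(two_le_of_mem_primesLE hp.1).trans' one_le_two, hp.2⟩
      _ = d := by simp
  · have hA : ∏ p ∈ P, p ≤ 4 ^ L := by
      rw [hP, ← primorial_eq_prod_primesLE]; exact primorial_le_four_pow L
    have hB : (∏ p ∈ P, if p ≤ s then p * p else 1) ≤ 4 ^ (2 * s) := by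
      rw [← Finset.prod_filter, Finset.prod_mul_distrib]
      have : ∏ p ∈ P.filter (fun p => p ≤ s), p ≤ 4 ^ s := by
        refine le_trans ?_ (primorial_le_four_pow s)
        rw [primorial_eq_prod_primesLE]
        refine Finset.prod_le_prod_of_subset_of_one_le' (fun p hp => ?_) fun p hp _ =>
          (one_lt_of_mem_primesLE hp).le
        rw [Finset.mem_filter] at hp
        exact mem_primesLE.2 ⟨hp.2, prime_of_mem_primesLE hp.1⟩
      calc _ ≤ 4 ^ s * 4 ^ s := Nat.mul_le_mul this this
        _ = 4 ^ (2 * s) := by rw [two_mul, pow_add]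
    calc _ ≤ 4 ^ L * 4 ^ (2 * s) := Nat.mul_le_mul hA hB
      _ = 4 ^ (L + 2 * s) := by rw [pow_add]

theorem pow_le_choose_mul (k : ℕ) : ∀ n : ℕ, k ≤ n → n ^ k ≤ n.choose k * k ^ k := by
  induction k with
  | zero => intro n _; simp
  | succ k ih =>
    intro n hn
    obtain ⟨m, rfl⟩ : ∃ m, n = m + 1 := ⟨n - 1, by omega⟩
    have hkm : k ≤ m := by omega
    rcases Nat.eq_zero_or_pos k with rfl | hk0
    · simp
    have h1 : (m + 1) ^ k * k ^ k ≤ m ^ k * (k + 1) ^ k := by
      rw [← mul_pow, ← mul_pow]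
      exact Nat.pow_le_pow_left (by nlinarith) k
    have h2 : (m + 1) ^ k * k ^ k ≤ m.choose k * (k + 1) ^ k * k ^ k := by
      calc (m + 1) ^ k * k ^ k ≤ m ^ k * (k + 1) ^ k := h1
        _ ≤ (m.choose k * k ^ k) * (k + 1) ^ k := Nat.mul_le_mul_right _ (ih m hkm)
        _ = m.choose k * (k + 1) ^ k * k ^ k := by ring
    have h3 : (m + 1) ^ k ≤ m.choose k * (k + 1) ^ k := Nat.le_of_mul_le_mul_right h2 (by positivity)
    calc (m + 1) ^ (k + 1) = (m + 1) * (m + 1) ^ k := by ring
      _ ≤ (m + 1) * (m.choose k * (k + 1) ^ k) := Nat.mul_le_mul_left _ h3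
      _ = ((m + 1) * m.choose k) * (k + 1) ^ k := by ring
      _ = ((m + 1).choose (k + 1) * (k + 1)) * (k + 1) ^ k := by rw [Nat.add_one_mul_choose_eq]
      _ = (m + 1).choose (k + 1) * (k + 1) ^ (k + 1) := by ring

/-- `binom(3k, k)` is at least `(27/4) ^ k / (4k)`. -/
theorem twentyseven_pow_le (k : ℕ) (hk : 1 ≤ k) :
    27 ^ k * (k.factorial * (2 * k).factorial) ≤ 4 * k * 4 ^ k * (3 * k).factorial := by
  induction k, hk using Nat.le_induction with
  | base => decide
  | succ k hk ih =>
    have e1 : (k + 1).factorial = (k + 1) * k.factorial := Nat.factorial_succ k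
    have e2 : (2 * (k + 1)).factorial = (2 * k + 2) * ((2 * k + 1) * (2 * k).factorial) := by
      rw [show 2 * (k + 1) = 2 * k + 1 + 1 by ring, Nat.factorial_succ, Nat.factorial_succ]
    have e3 : (3 * (k + 1)).factorial =
        (3 * k + 3) * ((3 * k + 2) * ((3 * k + 1) * (3 * k).factorial)) := by
      rw [show 3 * (k + 1) = 3 * k + 1 + 1 + 1 by ring, Nat.factorial_succ, Nat.factorial_succ,
        Nat.factorial_succ]
    have key : 27 * ((k + 1) * ((2 * k + 2) * (2 * k + 1))) * (4 * k) ≤
        4 * (k + 1) * 4 * ((3 * k + 3) * ((3 * k + 2) * (3 * k + 1))) := by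
      have h : 216 * k * (2 * k + 1) ≤ 48 * ((3 * k + 2) * (3 * k + 1)) := by nlinarith
      calc 27 * ((k + 1) * ((2 * k + 2) * (2 * k + 1))) * (4 * k)
          = (216 * k * (2 * k + 1)) * ((k + 1) * (k + 1)) := by ring
        _ ≤ (48 * ((3 * k + 2) * (3 * k + 1))) * ((k + 1) * (k + 1)) := Nat.mul_le_mul_right _ h
        _ = _ := by ring
    refine Nat.le_of_mul_le_mul_left ?_ (show 0 < 4 * k by omega)
    rw [e1, e2, e3]
    calc 4 * k * (27 ^ (k + 1) * ((k + 1) * k.factorial * ((2 * k + 2) * ((2 * k + 1) * (2 * k).factorial))))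
        = (27 * ((k + 1) * ((2 * k + 2) * (2 * k + 1))) * (4 * k)) *
          (27 ^ k * (k.factorial * (2 * k).factorial)) := by ring
      _ ≤ (4 * (k + 1) * 4 * ((3 * k + 3) * ((3 * k + 2) * (3 * k + 1)))) *
          (4 * k * 4 ^ k * (3 * k).factorial) := Nat.mul_le_mul key ih
      _ = _ := by ring

theorem choose_three_mul_lower {n k : ℕ} (hk : 1 ≤ k) (hn : 3 * k ≤ n) :
    27 ^ k ≤ 4 * k * 4 ^ k * n.choose k := by
  refine le_trans ?_ (Nat.mul_le_mul_left _ (Nat.choose_le_choose k hn))
  refine Nat.le_of_mul_le_mul_right ?_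
    (show 0 < k.factorial * (2 * k).factorial by positivity)
  refine (twentyseven_pow_le k hk).trans (le_of_eq ?_)
  rw [← Nat.choose_mul_factorial_mul_factorial (show k ≤ 3 * k by omega),
    show 3 * k - k = 2 * k by omega]
  ring

/-- For `2k + j ≤ 3k`, going up from the central coefficient gains `3/2` per step. -/
theorem choose_between_lower (k : ℕ) : ∀ j : ℕ, j ≤ k →
    3 ^ j * (2 * k).choose k ≤ 2 ^ j * (2 * k + j).choose k := by
  intro j
  induction j with
  | zero => intro _; simp
  | succ j ih =>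
    intro hj
    have h := Nat.choose_mul_succ_eq (2 * k + j) k
    have h3 : 3 * (2 * k + j).choose k ≤ 2 * (2 * k + j + 1).choose k := by
      refine Nat.le_of_mul_le_mul_right ?_ (show 0 < 2 * k + j + 1 by omega)
      calc 3 * (2 * k + j).choose k * (2 * k + j + 1)
          = 3 * ((2 * k + j).choose k * (2 * k + j + 1)) := by ring
        _ = 3 * ((2 * k + j + 1).choose k * (2 * k + j + 1 - k)) := by rw [h]
        _ ≤ 2 * (2 * k + j + 1).choose k * (2 * k + j + 1) := by
          have : 3 * (2 * k + j + 1 - k) ≤ 2 * (2 * k + j + 1) := by omega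
          nlinarith [Nat.mul_le_mul_left ((2 * k + j + 1).choose k) this]
    calc 3 ^ (j + 1) * (2 * k).choose k = 3 * (3 ^ j * (2 * k).choose k) := by ring
      _ ≤ 3 * (2 ^ j * (2 * k + j).choose k) := Nat.mul_le_mul_left _ (ih (by omega))
      _ = 2 ^ j * (3 * (2 * k + j).choose k) := by ring
      _ ≤ 2 ^ j * (2 * (2 * k + j + 1).choose k) := Nat.mul_le_mul_left _ h3
      _ = 2 ^ (j + 1) * (2 * k + (j + 1)).choose k := by rw [← add_assoc]; ring

end Cfsg.Agent.Lead.Sylvester
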