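/-
Finite checks for the theorem of Sylvester and Schur on prime divisors of binomial coefficients:
chains of primes with short steps, and an explicit check for lower index below 14.
-/
import Mathlib.NumberTheory.PrimeCounting
import Mathlib.Data.Nat.Choose.Factorization

set_option autoImplicit false

namespace Cfsg.Agent.Lead.Sylvester

/-- Trial division by the numbers `2, …, 127`; exact below `128 ^ 2`. -/
def isP (m : ℕ) : Bool :=
  decide (2 ≤ m) && decide (m < 16384) &&
    (List.range' 2 126).all fun i => decide (m < i * i) || decide (m % i ≠ 0)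

theorem isP_prime {m : ℕ} (h : isP m = true) : m.Prime := by
  simp only [isP, Bool.and_eq_true, decide_eq_true_eq, List.all_eq_true, Bool.or_eq_true,
    List.mem_range'_1] at h
  rw [Nat.prime_def_le_sqrt]
  refine ⟨h.1.1, fun i hi hle hdvd => ?_⟩
  have h2 : i * i ≤ m := Nat.le_sqrt.1 hle
  have hi' : i < 128 := by nlinarith
  rcases h.2 i ⟨hi, by omega⟩ with h3 | h3
  · omega
  · exact h3 (Nat.mod_eq_zero_of_dvd hdvd)

/-- A list of primes in which each entry exceeds its predecessor by at most `g`. -/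
def chainOK (g : ℕ) : List ℕ → Bool
  | [] => true
  | [p] => isP p
  | p :: q :: l => isP p && decide (q ≤ p + g) && chainOK g (q :: l)

theorem exists_of_chain (g : ℕ) : ∀ (l : List ℕ), chainOK g l = true →
    ∀ n : ℕ, l.headD (n + 1) ≤ n → n < l.getLastD 0 + g → ∃ p : ℕ, p.Prime ∧ n < p + g ∧ p ≤ n
  | [], _, n, h1, _ => by simp at h1
  | [p], h, n, h1, h2 => ⟨p, isP_prime h, by simpa using h2, by simpa using h1⟩
  | p :: q :: l, h, n, h1, h2 => by
    simp only [chainOK, Bool.and_eq_true, decide_eq_true_eq] at h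
    simp only [List.headD_cons] at h1
    by_cases hq : q ≤ n
    · exact exists_of_chain g (q :: l) h.2 n (by simpa using hq) (by simpa using h2)
    · exact ⟨p, isP_prime h.1.1, by omega, h1⟩

/-- Primes with steps at most 44, covering `[88, 16384)`. -/
def chain44 : List ℕ :=
  [83, 127, 167, 211, 251, 293, 337, 379, 421, 463, 503, 547, 587, 631, 673, 709, 751, 787, 829,
   863, 907, 947, 991, 1033, 1069, 1109, 1153, 1193, 1237, 1279, 1321, 1361, 1399, 1439, 1483,
   1523, 1567, 1609, 1637, 1669, 1709, 1753, 1789, 1831, 1873, 1913, 1951, 1993, 2029, 2069,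
   2113, 2153, 2179, 2221, 2251, 2293, 2333, 2377, 2417, 2459, 2503, 2543, 2579, 2621, 2663,
   2707, 2749, 2791, 2833, 2861, 2903, 2939, 2971, 3011, 3049, 3089, 3121, 3163, 3203, 3229,
   3271, 3313, 3347, 3391, 3433, 3469, 3511, 3547, 3583, 3623, 3659, 3701, 3739, 3779, 3823,
   3863, 3907, 3947, 3989, 4027, 4057, 4099, 4139, 4177, 4219, 4261, 4297, 4339, 4373, 4409,
   4451, 4493, 4523, 4567, 4603, 4643, 4679, 4723, 4759, 4801, 4831, 4871, 4909, 4951, 4993,
   5023, 5059, 5101, 5119, 5153, 5197, 5237, 5281, 5323, 5351, 5393, 5437, 5479, 5521, 5563,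
   5591, 5623, 5659, 5701, 5743, 5783, 5827, 5869, 5903, 5939, 5981, 6011, 6053, 6091, 6133,
   6173, 6217, 6257, 6301, 6343, 6379, 6421, 6451, 6491, 6529, 6571, 6607, 6637, 6679, 6719,
   6763, 6803, 6841, 6883, 6917, 6961, 7001, 7043, 7079, 7121, 7159, 7193, 7237, 7253, 7297,
   7333, 7369, 7411, 7451, 7489, 7529, 7573, 7607, 7649, 7691, 7727, 7759, 7793, 7829, 7873,
   7907, 7951, 7993, 8017, 8059, 8101, 8123, 8167, 8209, 8243, 8287, 8329, 8369, 8389, 8431,
   8467, 8501, 8543, 8581, 8623, 8663, 8707, 8747, 8783, 8821, 8863, 8893, 8933, 8971, 9013,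
   9049, 9091, 9133, 9173, 9209, 9241, 9283, 9323, 9349, 9391, 9433, 9473, 9511, 9551, 9587,
   9631, 9661, 9697, 9739, 9781, 9817, 9859, 9901, 9941, 9973, 10009, 10039, 10079, 10111, 10151,
   10193, 10223, 10267, 10303, 10343, 10369, 10399, 10433, 10477, 10513, 10531, 10567, 10607,
   10651, 10691, 10733, 10771, 10799, 10837, 10867, 10909, 10949, 10993, 11027, 11071, 11113,
   11149, 11177, 11213, 11257, 11299, 11329, 11369, 11411, 11447, 11491, 11527, 11551, 11593,
   11633, 11677, 11719, 11743, 11783, 11827, 11867, 11909, 11953, 11987, 12011, 12049, 12073,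
   12113, 12157, 12197, 12241, 12281, 12323, 12347, 12391, 12433, 12473, 12517, 12553, 12589,
   12619, 12659, 12703, 12743, 12781, 12823, 12853, 12893, 12923, 12967, 13009, 13049, 13093,
   13127, 13171, 13187, 13229, 13267, 13309, 13339, 13381, 13421, 13463, 13499, 13537, 13577,
   13619, 13649, 13693, 13729, 13763, 13807, 13841, 13883, 13921, 13963, 13999, 14033, 14071,
   14107, 14149, 14177, 14221, 14251, 14293, 14327, 14369, 14411, 14449, 14489, 14533, 14563,
   14593, 14633, 14669, 14713, 14753, 14797, 14831, 14869, 14897, 14939, 14983, 15017, 15061,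
   15101, 15139, 15173, 15217, 15259, 15299, 15331, 15373, 15413, 15451, 15493, 15527, 15569,
   15607, 15649, 15683, 15727, 15767, 15809, 15823, 15859, 15901, 15937, 15973, 16007, 16033,
   16073, 16111, 16141, 16183, 16223, 16267, 16301, 16339, 16381]

theorem chain44_ok : chainOK 44 chain44 = true := by decide +kernel

theorem exists_prime_44 {n : ℕ} (h1 : 88 ≤ n) (h2 : n < 16384) :
    ∃ p : ℕ, p.Prime ∧ n < p + 44 ∧ p ≤ n :=
  exists_of_chain 44 chain44 chain44_ok n (by rw [show chain44.headD (n + 1) = 83 from rfl]; omega)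
    (by rw [show chain44.getLastD 0 = 16381 by decide +kernel]; omega)

/-- Primes with steps at most 34, covering `[68, 1850)`. -/
def chain34 : List ℕ :=
  [67, 101, 131, 163, 197, 229, 263, 293, 317, 349, 383, 409, 443, 467, 499, 523, 557, 587, 619,
   653, 683, 709, 743, 773, 797, 829, 863, 887, 919, 953, 983, 1013, 1039, 1069, 1103, 1129,
   1163, 1193, 1223, 1249, 1283, 1307, 1327, 1361, 1381, 1409, 1439, 1471, 1499, 1531, 1559,
   1583, 1613, 1637, 1669, 1699, 1733, 1759, 1789, 1823]

theorem chain34_ok : chainOK 34 chain34 = true := by decide +kernel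

theorem exists_prime_34 {n : ℕ} (h1 : 68 ≤ n) (h2 : n < 1850) :
    ∃ p : ℕ, p.Prime ∧ n < p + 34 ∧ p ≤ n :=
  exists_of_chain 34 chain34 chain34_ok n (by rw [show chain34.headD (n + 1) = 67 from rfl]; omega)
    (by rw [show chain34.getLastD 0 = 1823 by decide +kernel]; omega)

/-- Primes with steps at most 22, covering `[44, 1090)`. -/
def chain22 : List ℕ :=
  [43, 61, 83, 103, 113, 131, 151, 173, 193, 211, 233, 251, 271, 293, 313, 331, 353, 373, 389,
   409, 431, 449, 467, 487, 509, 523, 541, 563, 577, 599, 619, 641, 661, 683, 701, 719, 739, 761,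
   773, 787, 809, 829, 839, 859, 881, 887, 907, 929, 947, 967, 983, 997, 1019, 1039, 1061, 1069]

theorem chain22_ok : chainOK 22 chain22 = true := by decide +kernel

theorem exists_prime_22 {n : ℕ} (h1 : 44 ≤ n) (h2 : n < 1090) :
    ∃ p : ℕ, p.Prime ∧ n < p + 22 ∧ p ≤ n :=
  exists_of_chain 22 chain22 chain22_ok n (by rw [show chain22.headD (n + 1) = 43 from rfl]; omega)
    (by rw [show chain22.getLastD 0 = 1069 by decide +kernel]; omega)

/-- Primes with steps at most 14, covering `[28, 442)`. -/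
def chain14 : List ℕ :=
  [23, 37, 47, 61, 73, 83, 97, 109, 113, 127, 139, 151, 163, 173, 181, 193, 199, 211, 223, 233,
   241, 251, 263, 277, 283, 293, 307, 317, 331, 337, 349, 359, 373, 383, 397, 409, 421, 433]

theorem chain14_ok : chainOK 14 chain14 = true := by decide +kernel

theorem exists_prime_14 {n : ℕ} (h1 : 28 ≤ n) (h2 : n < 442) :
    ∃ p : ℕ, p.Prime ∧ n < p + 14 ∧ p ≤ n :=
  exists_of_chain 14 chain14 chain14_ok n (by rw [show chain14.headD (n + 1) = 23 from rfl]; omega)
    (by rw [show chain14.getLastD 0 = 433 by decide +kernel]; omega)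

/-- Among `n, n-1, …, n-k+1` some number does not divide `(k!) ^ 8`. -/
def smallOK (k n : ℕ) : Bool :=
  (List.range k).any fun i => decide (k.factorial ^ 8 % (n - i) ≠ 0)

theorem small_check :
    ((List.range' 1 13).all fun k => (List.range' (2 * k) (170 - 2 * k)).all (smallOK k)) = true := by
  decide +kernel

theorem small_cases {k n : ℕ} (hk : 1 ≤ k) (hk2 : k < 14) (h1 : 2 * k ≤ n) (h2 : n < 170) :
    ∃ i < k, ¬ (n - i) ∣ k.factorial ^ 8 := by
  have h := List.all_eq_true.1
    (List.all_eq_true.1 small_check k (List.mem_range'_1.2 ⟨hk, by omega⟩)) n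
    (List.mem_range'_1.2 ⟨h1, by omega⟩)
  simp only [smallOK, List.any_eq_true, List.mem_range, decide_eq_true_eq] at h
  obtain ⟨i, hi, hd⟩ := h
  exact ⟨i, hi, fun hdvd => hd (Nat.mod_eq_zero_of_dvd hdvd)⟩

end Cfsg.Agent.Lead.Sylvester
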