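/-
Theorem of Sylvester and Schur: for `2k ≤ n` some prime larger than `k` divides `binom(n, k)`
(Erdős's elementary proof).
-/
import Cfsg.Agent.Lib.Lead.Sylvester.Small
import Cfsg.Agent.Lib.Lead.Sylvester.Bounds
import Mathlib.Data.Nat.Factorial.BigOperators

set_option autoImplicit false

namespace Cfsg.Agent.Lead.Sylvester

open Nat

variable {n k : ℕ}

theorem noBig_no_prime (hkn : 2 * k ≤ n) (h : NoBig n k) {p : ℕ} (hp : p.Prime) (h1 : n < p + k)
    (h2 : p ≤ n) : False := by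
  have hpk : k < p := by omega
  have hd : p ∣ n.choose k * k.factorial * (n - k).factorial := by
    rw [Nat.choose_mul_factorial_mul_factorial (show k ≤ n by omega)]
    exact Nat.dvd_factorial hp.pos h2
  rcases hp.dvd_mul.1 hd with h3 | h3
  · rcases hp.dvd_mul.1 h3 with h4 | h4
    · exact absurd (h p hp h4) (by omega)
    · exact absurd (hp.dvd_factorial.1 h4) (by omega)
  · exact absurd (hp.dvd_factorial.1 h3) (by omega)

theorem noBig_dvd (hk : k ≤ n) (h : NoBig n k) (e : ℕ) {i : ℕ} (hi : i < k)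
    (he : n < 2 ^ e) : (n - i) ∣ k.factorial ^ e := by
  have hm : n - i ≠ 0 := by omega
  rw [← Nat.factorization_le_iff_dvd hm (pow_ne_zero _ (Nat.factorial_ne_zero k))]
  intro p
  by_cases hp : p.Prime
  swap
  · rw [Nat.factorization_eq_zero_of_not_prime _ hp]; exact Nat.zero_le _
  by_cases hdvd : p ∣ n - i
  swap
  · rw [Nat.factorization_eq_zero_of_not_dvd hdvd]; exact Nat.zero_le _
  have hpk : p ∣ k.factorial := by
    by_contra hno
    have hd : p ∣ n.descFactorial k := by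
      rw [Nat.descFactorial_eq_prod_range]
      exact hdvd.trans (Finset.dvd_prod_of_mem _ (Finset.mem_range.2 hi))
    rw [Nat.descFactorial_eq_factorial_mul_choose] at hd
    exact hno ((Nat.dvd_factorial hp.pos) (h p hp ((hp.dvd_mul.1 hd).resolve_left hno)))
  have h1 : (n - i).factorization p < e := by
    refine (Nat.pow_lt_pow_iff_right (show 1 < 2 by norm_num)).1 ?_
    calc 2 ^ (n - i).factorization p ≤ p ^ (n - i).factorization p := Nat.pow_le_pow_left hp.two_le _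
      _ ≤ n - i := Nat.le_of_dvd (by omega) (Nat.ordProj_dvd _ _)
      _ < 2 ^ e := by omega
  have h2 : 1 ≤ k.factorial.factorization p :=
    hp.factorization_pos_of_dvd (Nat.factorial_ne_zero k) hpk
  rw [Nat.factorization_pow, Finsupp.smul_apply, smul_eq_mul]
  nlinarith

theorem pow_le_of_pi (hk : k ≤ n) (hn : 0 < n) (h : NoBig n k) {c : ℕ} (hc : primeCounting k ≤ c) :
    n ^ k ≤ n ^ c * k ^ k :=
  (pow_le_choose_mul k n hk).trans (Nat.mul_le_mul_right _
    ((choose_le_pow_primeCounting hk hn h).trans (Nat.pow_le_pow_right hn hc)))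

theorem two_mul_pi_check :
    ((List.range' 8 36).all fun k => decide (2 * primeCounting k ≤ k)) = true := by decide +kernel

theorem three_mul_pi_check :
    ((List.range' 44 106).all fun k => decide (3 * primeCounting k ≤ k)) = true := by decide +kernel

theorem three_mul_pi_le (hk : 44 ≤ k) : 3 * primeCounting k ≤ k := by
  by_cases h150 : k < 150
  · simpa using List.all_eq_true.1 three_mul_pi_check k (List.mem_range'_1.2 ⟨hk, by omega⟩)
  · have h := Nat.primeCounting_add_le (a := 30) (k := 30) (by norm_num) le_rfl (k - 30)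
    rw [show 30 + (k - 30) = k by omega, show Nat.totient 30 = 8 by decide +kernel,
      show primeCounting 30 = 10 by decide +kernel] at h
    omega

theorem sq_le_cube (hk : 44 ≤ k) (hn : 2 * k ≤ n) (h : NoBig n k) : n ^ 2 ≤ k ^ 3 := by
  have h1 := pow_le_of_pi (show k ≤ n by omega) (show 0 < n by omega) h le_rfl
  have h3 := three_mul_pi_le hk
  set c := primeCounting k
  rw [show k = c + (k - c) by omega, pow_add, ← show k = c + (k - c) by omega] at h1
  have h2 : n ^ (k - c) ≤ k ^ k := Nat.le_of_mul_le_mul_left h1 (pow_pos (by omega) _)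
  refine (Nat.pow_le_pow_iff_left (show k ≠ 0 by omega)).1 ?_
  calc (n ^ 2) ^ k = n ^ (2 * k) := by rw [← pow_mul]
    _ ≤ n ^ ((k - c) * 3) := Nat.pow_le_pow_right (by omega) (by omega)
    _ = (n ^ (k - c)) ^ 3 := by rw [pow_mul]
    _ ≤ (k ^ k) ^ 3 := Nat.pow_le_pow_left h2 3
    _ = (k ^ 3) ^ k := by rw [← pow_mul, ← pow_mul, mul_comm]

theorem le_sq_of_mid (hk : 8 ≤ k) (hk2 : k < 44) (hn : 2 * k ≤ n) (h : NoBig n k) : n ≤ k ^ 2 := by
  have h1 := pow_le_of_pi (show k ≤ n by omega) (show 0 < n by omega) h le_rfl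
  have h3 : 2 * primeCounting k ≤ k := by
    simpa using List.all_eq_true.1 two_mul_pi_check k (List.mem_range'_1.2 ⟨hk, by omega⟩)
  set c := primeCounting k
  rw [show k = c + (k - c) by omega, pow_add, ← show k = c + (k - c) by omega] at h1
  have h2 : n ^ (k - c) ≤ k ^ k := Nat.le_of_mul_le_mul_left h1 (pow_pos (by omega) _)
  refine (Nat.pow_le_pow_iff_left (show k - c ≠ 0 by omega)).1 ?_
  calc n ^ (k - c) ≤ k ^ k := h2
    _ ≤ k ^ (2 * (k - c)) := Nat.pow_le_pow_right (by omega) (by omega)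
    _ = (k ^ 2) ^ (k - c) := by rw [pow_mul]

theorem small_pi_check :
    ((List.range' 1 7).all fun k => decide (k ^ k < 100 ^ (k - primeCounting k))) = true := by
  decide +kernel

theorem lt_hundred (hk : 1 ≤ k) (hk2 : k < 8) (hn : 2 * k ≤ n) (h : NoBig n k) : n < 100 := by
  have h1 := pow_le_of_pi (show k ≤ n by omega) (show 0 < n by omega) h le_rfl
  have h3 : k ^ k < 100 ^ (k - primeCounting k) := by
    simpa using List.all_eq_true.1 small_pi_check k (List.mem_range'_1.2 ⟨hk, by omega⟩)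
  set c := primeCounting k
  have hck : c < k := by
    by_contra hc
    rw [show k - c = 0 by omega, pow_zero] at h3
    exact absurd (Nat.one_le_pow k k (by omega)) (by omega)
  rw [show k = c + (k - c) by omega, pow_add, ← show k = c + (k - c) by omega] at h1
  have h2 : n ^ (k - c) ≤ k ^ k := Nat.le_of_mul_le_mul_left h1 (pow_pos (by omega) _)
  by_contra hle
  exact absurd ((Nat.pow_le_pow_left (by omega : 100 ≤ n) (k - c)).trans h2) (by omega)

/-- Up to `n < 16384` the chains of primes and the explicit check suffice. -/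
theorem small_false (hk : 1 ≤ k) (hn : 2 * k ≤ n) (hn2 : n < 16384) (h : NoBig n k) : False := by
  by_cases hk44 : 44 ≤ k
  · obtain ⟨p, hp, h1, h2⟩ := exists_prime_44 (show 88 ≤ n by omega) hn2
    exact noBig_no_prime hn h hp (by omega) h2
  by_cases hk14 : 14 ≤ k
  · have hsq := le_sq_of_mid (by omega) (by omega) hn h
    by_cases hk34 : 34 ≤ k
    · have : k ^ 2 ≤ 43 ^ 2 := Nat.pow_le_pow_left (by omega) 2
      obtain ⟨p, hp, h1, h2⟩ := exists_prime_34 (show 68 ≤ n by omega) (by omega)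
      exact noBig_no_prime hn h hp (by omega) h2
    by_cases hk22 : 22 ≤ k
    · have : k ^ 2 ≤ 33 ^ 2 := Nat.pow_le_pow_left (by omega) 2
      obtain ⟨p, hp, h1, h2⟩ := exists_prime_22 (show 44 ≤ n by omega) (by omega)
      exact noBig_no_prime hn h hp (by omega) h2
    · have : k ^ 2 ≤ 21 ^ 2 := Nat.pow_le_pow_left (by omega) 2
      obtain ⟨p, hp, h1, h2⟩ := exists_prime_14 (show 28 ≤ n by omega) (by omega)
      exact noBig_no_prime hn h hp (by omega) h2
  have hn170 : n < 170 := by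
    by_cases hk8 : 8 ≤ k
    · have hsq := le_sq_of_mid hk8 (by omega) hn h
      have : k ^ 2 ≤ 13 ^ 2 := Nat.pow_le_pow_left (by omega) 2
      omega
    · have := lt_hundred hk (by omega) hn h
      omega
  obtain ⟨i, hi, hno⟩ := small_cases hk (by omega) hn hn170
  exact hno (noBig_dvd (by omega) h 8 hi (by omega))

theorem succ_sq_le_two_pow : ∀ r : ℕ, 6 ≤ r → (r + 1) ^ 2 ≤ 2 ^ r := by
  intro r hr
  induction r, hr using Nat.le_induction with
  | base => norm_num
  | succ r hr ih => rw [pow_succ 2 r]; nlinarith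

theorem pow_sqrt_le (hk : 36 ≤ k) : k ^ Nat.sqrt k ≤ 2 ^ k := by
  set r := Nat.sqrt k with hr
  have h6 : 6 ≤ r := Nat.le_sqrt.2 (by omega)
  have h1 : k < (r + 1) * (r + 1) := Nat.lt_succ_sqrt k
  calc k ^ r ≤ (2 ^ r) ^ r :=
        Nat.pow_le_pow_left (by have := succ_sq_le_two_pow r h6; nlinarith) r
    _ = 2 ^ (r * r) := by rw [pow_mul]
    _ ≤ 2 ^ k := Nat.pow_le_pow_right (by norm_num) (Nat.sqrt_le k)

theorem far_false (hn16 : 16 * k ≤ n) (hbig : 16384 ≤ n) (hk : 44 ≤ k) (h : NoBig n k) : False := by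
  have hA := sq_le_cube hk (by omega) h
  have hk646 : 646 ≤ k := by
    by_contra hlt
    have h1 : k ^ 3 ≤ 645 ^ 3 := Nat.pow_le_pow_left (by omega) 3
    have h2 : 16384 ^ 2 ≤ n ^ 2 := Nat.pow_le_pow_left hbig 2
    omega
  have hC1 := pow_le_choose_mul k n (by omega)
  have hC2 := choose_le_bound (show k ≤ n by omega) (by omega) k h
  set s := Nat.sqrt n with hs
  set d := Nat.sqrt s with hd
  have hC3 : 16 ^ k ≤ n.choose k := by
    refine Nat.le_of_mul_le_mul_right ?_ (show 0 < k ^ k from pow_pos (by omega) k)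
    rw [← mul_pow]
    exact (Nat.pow_le_pow_left hn16 k).trans hC1
  have hs5 : 5 * s ≤ k := by
    refine (Nat.pow_le_pow_iff_left (show 4 ≠ 0 by norm_num)).1 ?_
    calc (5 * s) ^ 4 = 625 * (s * s) ^ 2 := by ring
      _ ≤ 625 * n ^ 2 := Nat.mul_le_mul_left _ (Nat.pow_le_pow_left (Nat.sqrt_le n) 2)
      _ ≤ 625 * k ^ 3 := Nat.mul_le_mul_left _ hA
      _ ≤ k * k ^ 3 := Nat.mul_le_mul_right _ (by omega)
      _ = k ^ 4 := by ring
  have hd2 : 2 * d ≤ Nat.sqrt k := by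
    rw [Nat.le_sqrt]
    have := Nat.sqrt_le s
    rw [← hd] at this
    nlinarith
  have hnd : n ^ (4 * d) ≤ 2 ^ (3 * k) := by
    calc n ^ (4 * d) = (n ^ 2) ^ (2 * d) := by rw [← pow_mul]; ring_nf
      _ ≤ (k ^ 3) ^ (2 * d) := Nat.pow_le_pow_left hA _
      _ ≤ (k ^ 3) ^ Nat.sqrt k := Nat.pow_le_pow_right (pow_pos (by omega) 3) hd2
      _ = (k ^ Nat.sqrt k) ^ 3 := by rw [← pow_mul, ← pow_mul, mul_comm]
      _ ≤ (2 ^ k) ^ 3 := Nat.pow_le_pow_left (pow_sqrt_le (by omega)) 3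
      _ = 2 ^ (3 * k) := by rw [← pow_mul, mul_comm]
  have hfin : 2 ^ (16 * k) ≤ 2 ^ (3 * k + 8 * (k + 2 * s)) := by
    calc 2 ^ (16 * k) = (16 ^ k) ^ 4 := by
          rw [show (16 : ℕ) = 2 ^ 4 by norm_num, ← pow_mul, ← pow_mul]; ring_nf
      _ ≤ (n ^ d * 4 ^ (k + 2 * s)) ^ 4 := Nat.pow_le_pow_left (hC3.trans hC2) 4
      _ = n ^ (4 * d) * 2 ^ (8 * (k + 2 * s)) := by
          rw [mul_pow, show (4 : ℕ) = 2 ^ 2 by norm_num, ← pow_mul, ← pow_mul, ← pow_mul]; ring_nf
      _ ≤ 2 ^ (3 * k) * 2 ^ (8 * (k + 2 * s)) := Nat.mul_le_mul_right _ hnd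
      _ = _ := by rw [← pow_add]
  have := (Nat.pow_le_pow_iff_right (show 1 < 2 by norm_num)).1 hfin
  omega

/-- Common estimates when `n < 16k`, with `r = sqrt k` and `q = sqrt r`. -/
theorem near_bound (hk : 1024 ≤ k) (hn : n < 16 * k) (hn0 : 2 * k ≤ n) (L : ℕ)
    (hL : ∀ p : ℕ, p.Prime → p ∣ n.choose k → p ≤ L) :
    n.choose k ≤ 2 ^ (2 * L + 20 * Nat.sqrt k + 14 * Nat.sqrt (Nat.sqrt k) + 18) ∧
      4 * k ≤ 2 ^ (2 * Nat.sqrt (Nat.sqrt k) + 4) := by
  set r := Nat.sqrt k with hr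
  set q := Nat.sqrt r with hq
  have hr32 : 32 ≤ r := Nat.le_sqrt.2 (by omega)
  have hq5 : 5 ≤ q := Nat.le_sqrt.2 (by omega)
  have hkr : k < (r + 1) * (r + 1) := Nat.lt_succ_sqrt k
  have hrq : r < (q + 1) * (q + 1) := Nat.lt_succ_sqrt r
  have hqq : q * q ≤ r := Nat.sqrt_le r
  have hb := choose_le_bound (show k ≤ n by omega) (by omega) L hL
  set s := Nat.sqrt n with hs
  set d := Nat.sqrt s with hd
  have hss : s * s ≤ n := Nat.sqrt_le n
  have hs4 : s ≤ 4 * r + 3 := by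
    by_contra hlt
    have : (4 * r + 4) * (4 * r + 4) ≤ s * s := Nat.mul_le_mul (by omega) (by omega)
    nlinarith
  have hdd : d * d ≤ s := Nat.sqrt_le s
  have hdq : d ≤ 2 * q + 1 := by
    by_contra hlt
    have : (2 * q + 2) * (2 * q + 2) ≤ d * d := Nat.mul_le_mul (by omega) (by omega)
    nlinarith
  have hq2 : (q + 1) * (q + 1) ≤ 2 ^ (q + 1) := by
    have h1 := succ_sq_le_two_pow (q + 1) (by omega)
    nlinarith
  have hk2 : k < 2 ^ (2 * q + 2) := by
    calc k < (r + 1) * (r + 1) := hkr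
      _ ≤ ((q + 1) * (q + 1)) * ((q + 1) * (q + 1)) := Nat.mul_le_mul (by omega) (by omega)
      _ ≤ 2 ^ (q + 1) * 2 ^ (q + 1) := Nat.mul_le_mul hq2 hq2
      _ = 2 ^ (2 * q + 2) := by rw [← pow_add]; ring_nf
  have hn2 : n ≤ 2 ^ (2 * q + 6) := by
    have : 2 ^ (2 * q + 6) = 16 * 2 ^ (2 * q + 2) := by ring
    omega
  refine ⟨?_, ?_⟩
  · calc n.choose k ≤ n ^ d * 4 ^ (L + 2 * s) := hb
      _ ≤ (2 ^ (2 * q + 6)) ^ d * 4 ^ (L + 2 * s) := Nat.mul_le_mul_right _ (Nat.pow_le_pow_left hn2 d)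
      _ = 2 ^ ((2 * q + 6) * d + 2 * (L + 2 * s)) := by
          rw [show (4 : ℕ) = 2 ^ 2 by norm_num, ← pow_mul, ← pow_mul, ← pow_add]
      _ ≤ _ := Nat.pow_le_pow_right (by norm_num) (by
          have : (2 * q + 6) * d ≤ (2 * q + 6) * (2 * q + 1) := Nat.mul_le_mul_left _ hdq
          nlinarith)
  · have : 2 ^ (2 * q + 4) = 4 * 2 ^ (2 * q + 2) := by ring
    omega

theorem middle_false (hk : 1024 ≤ k) (hn3 : 3 * k ≤ n) (hn : n < 16 * k) (h : NoBig n k) : False := by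
  obtain ⟨hC, h4k⟩ := near_bound hk hn (by omega) k h
  set r := Nat.sqrt k with hr
  set q := Nat.sqrt r with hq
  have hr32 : 32 ≤ r := Nat.le_sqrt.2 (by omega)
  have hq5 : 5 ≤ q := Nat.le_sqrt.2 (by omega)
  have hqq : q * q ≤ r := Nat.sqrt_le r
  have hrr : r * r ≤ k := Nat.sqrt_le k
  have h27 := choose_three_mul_lower (show 1 ≤ k by omega) hn3
  have hfin : 2 ^ (19 * k) ≤
      2 ^ (4 * ((2 * q + 4) + 2 * k + (2 * k + 20 * r + 14 * q + 18))) := by
    calc 2 ^ (19 * k) = (2 ^ 19) ^ k := by rw [pow_mul]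
      _ ≤ (27 ^ 4) ^ k := Nat.pow_le_pow_left (by norm_num) k
      _ = (27 ^ k) ^ 4 := by rw [← pow_mul, ← pow_mul, mul_comm]
      _ ≤ (4 * k * 4 ^ k * n.choose k) ^ 4 := Nat.pow_le_pow_left h27 4
      _ ≤ (2 ^ (2 * q + 4) * 4 ^ k * 2 ^ (2 * k + 20 * r + 14 * q + 18)) ^ 4 :=
          Nat.pow_le_pow_left (Nat.mul_le_mul (Nat.mul_le_mul_right _ h4k) hC) 4
      _ = _ := by
          rw [show (4 : ℕ) ^ k = 2 ^ (2 * k) by rw [pow_mul]; norm_num, ← pow_add, ← pow_add,
            ← pow_mul, mul_comm]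
  have := (Nat.pow_le_pow_iff_right (show 1 < 2 by norm_num)).1 hfin
  nlinarith

theorem near_false (hk : 5462 ≤ k) (hn2 : 2 * k ≤ n) (hn : n < 3 * k) (h : NoBig n k) : False := by
  have hL : ∀ p : ℕ, p.Prime → p ∣ n.choose k → p ≤ n / 3 := by
    intro p hp hd
    by_contra hlt
    have hpk := h p hp hd
    have h0 : (n.choose k).factorization p = 0 :=
      factorization_choose_of_lt_three_mul (by omega) hpk (by omega) (by omega)
    exact absurd (hp.factorization_pos_of_dvd (Nat.choose_pos (by omega)).ne' hd) (by omega)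
  obtain ⟨hC, h4k⟩ := near_bound (show 1024 ≤ k by omega) (show n < 16 * k by omega) hn2 (n / 3) hL
  set r := Nat.sqrt k with hr
  set q := Nat.sqrt r with hq
  have hr32 : 73 ≤ r := Nat.le_sqrt.2 (by omega)
  have hq5 : 8 ≤ q := Nat.le_sqrt.2 (by omega)
  have hqq : q * q ≤ r := Nat.sqrt_le r
  have hrr : r * r ≤ k := Nat.sqrt_le k
  obtain ⟨j, rfl⟩ : ∃ j, n = 2 * k + j := ⟨n - 2 * k, by omega⟩
  have hlow := choose_between_lower k j (by omega)
  have hcen : 4 ^ k ≤ 2 * k * (2 * k).choose k := by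
    have := Nat.four_pow_le_two_mul_self_mul_centralBinom k (by omega)
    rwa [Nat.centralBinom_eq_two_mul_choose] at this
  have h2k : 2 * k ≤ 2 ^ (2 * q + 4) := by omega
  set E := 2 * q + 4 + (2 * ((2 * k + j) / 3) + 20 * r + 14 * q + 18) with hE
  have hkey : 3 ^ j * 4 ^ k ≤ 2 ^ j * 2 ^ E := by
    calc 3 ^ j * 4 ^ k ≤ 3 ^ j * (2 * k * (2 * k).choose k) := Nat.mul_le_mul_left _ hcen
      _ = 2 * k * (3 ^ j * (2 * k).choose k) := by ring
      _ ≤ 2 * k * (2 ^ j * (2 * k + j).choose k) := Nat.mul_le_mul_left _ hlow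
      _ ≤ 2 ^ (2 * q + 4) * (2 ^ j * 2 ^ (2 * ((2 * k + j) / 3) + 20 * r + 14 * q + 18)) :=
          Nat.mul_le_mul h2k (Nat.mul_le_mul_left _ hC)
      _ = 2 ^ j * 2 ^ E := by rw [hE, pow_add 2 (2 * q + 4)]; ring
  have hfin : 2 ^ (19 * j + 24 * k) ≤ 2 ^ (12 * (j + E)) := by
    calc 2 ^ (19 * j + 24 * k) = (2 ^ 19) ^ j * 2 ^ (24 * k) := by rw [pow_add, pow_mul]
      _ ≤ (3 ^ 12) ^ j * 2 ^ (24 * k) := Nat.mul_le_mul_right _ (Nat.pow_le_pow_left (by norm_num) j)
      _ = (3 ^ j * 4 ^ k) ^ 12 := by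
          rw [mul_pow, ← pow_mul, ← pow_mul, ← pow_mul, show (4 : ℕ) = 2 ^ 2 by norm_num, ← pow_mul,
            mul_comm 12 j, show 2 * (k * 12) = 24 * k by ring]
      _ ≤ (2 ^ j * 2 ^ E) ^ 12 := Nat.pow_le_pow_left hkey 12
      _ = _ := by rw [← pow_add, ← pow_mul, mul_comm]
  have h1 := (Nat.pow_le_pow_iff_right (show 1 < 2 by norm_num)).1 hfin
  have h2 : 3 * ((2 * k + j) / 3) ≤ 2 * k + j := by omega
  nlinarith

/-- Sylvester–Schur. -/
theorem exists_prime_gt_dvd_choose {n k : ℕ} (hk : 1 ≤ k) (hn : 2 * k ≤ n) :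
    ∃ p : ℕ, p.Prime ∧ k < p ∧ p ∣ n.choose k := by
  by_contra hno
  have h : NoBig n k := fun p hp hd => not_lt.1 fun hlt => hno ⟨p, hp, hlt, hd⟩
  by_cases hbig : n < 16384
  · exact small_false hk hn hbig h
  have hk44 : 44 ≤ k := by
    by_contra hlt
    by_cases hk8 : 8 ≤ k
    · have := le_sq_of_mid hk8 (by omega) hn h
      have : k ^ 2 ≤ 43 ^ 2 := Nat.pow_le_pow_left (by omega) 2
      omega
    · have := lt_hundred hk (by omega) hn h
      omega
  by_cases h16 : 16 * k ≤ n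
  · exact far_false h16 (by omega) hk44 h
  by_cases h3 : 3 * k ≤ n
  · exact middle_false (by omega) h3 (by omega) h
  · exact near_false (by omega) hn (by omega) h

end Cfsg.Agent.Lead.Sylvester
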